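import Groth.Agent.Weighting.GeomCard
import Groth.Agent.DvrDom.RationalPoint
import Groth.Agent.DvrDom.Scheme
import Mathlib.FieldTheory.IsAlgClosed.Basic

/-!
# Realising the geometric number of points of a fibre over a field
-/

set_option linter.style.haveILetI false

universe u

open CategoryTheory Limits AlgebraicGeometry IsLocalRing

namespace Groth.Agent.GeomPts

open Groth.Agent.Weighting

variable {X Y : Scheme.{u}}

/-- Points with values in a field are determined by their values in a bigger field. -/
theorem eq_of_comp_field {K Ω : Type u} [Field K] [Field Ω] (φ : K →+* Ω)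
    {σ₁ σ₂ : Spec (CommRingCat.of K) ⟶ X}
    (h : Spec.map (CommRingCat.ofHom φ) ≫ σ₁ = Spec.map (CommRingCat.ofHom φ) ≫ σ₂) : σ₁ = σ₂ := by
  have hp : pt σ₂ = pt σ₁ := by
    have h1 := congrArg pt h
    rw [pt_comp, pt_comp, apply_eq_pt, apply_eq_pt] at h1
    exact h1.symm
  obtain ⟨φ₁, h₁⟩ := DvrDom.exists_fac_descResidueField σ₁ (x := pt σ₁) rfl
  obtain ⟨φ₂, h₂⟩ := DvrDom.exists_fac_descResidueField σ₂ (x := pt σ₁) hp
  rw [← h₁, ← h₂, ← Spec.map_comp_assoc, ← Spec.map_comp_assoc, cancel_mono] at h
  rw [← h₁, ← h₂]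
  have : φ₁ = φ₂ := CommRingCat.hom_ext (RingHom.ext fun a ↦ φ.injective congr($(Spec.map_injective h).hom a))
  rw [this]

/-- The geometric number of points is the number of geometric points. -/
theorem nGeomConnComp_eq_card_fib (f : X ⟶ Y) [LocallyQuasiFinite f] [LocallyOfFiniteType f] [QuasiCompact f]
    {Ω : Type u} [Field Ω] [IsAlgClosed Ω] (v : Spec (CommRingCat.of Ω) ⟶ Y) :
    MoreMor.nGeomConnComp f (pt v) = ENat.card (Fib f v) := by
  classical
  have hfin : ∀ y : Y, (f ⁻¹' {y}).Finite := fun y ↦ f.finite_preimage_singleton y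
  have hfv := finite_fib f v (hfin _)
  rw [nGeomConnComp_eq f hfin, fibreIntegral_eq f _ v (hfin _),
    finsum_mem_eq_finite_toFinset_sum _ hfv, Finset.sum_const, nsmul_one, Int.toNat_natCast]
  haveI := hfv.fintype
  rw [ENat.card_eq_coe_fintype_card, Set.Finite.card_toFinset]

/-- Over an algebraically closed field a point of a quasi-finite scheme is rational. -/
theorem bijective_residueFieldMap_of_isAlgClosed {P : Scheme.{u}} {K : Type u} [Field K] [IsAlgClosed K]
    (π : P ⟶ Spec (CommRingCat.of K)) [LocallyQuasiFinite π] (q : P) :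
    Function.Bijective (π.residueFieldMap q).hom := by
  let ι : CommRingCat.of K ⟶ P.residueField q := Spec.preimage (P.fromSpecResidueField q ≫ π)
  have hι : Spec.map ι = P.fromSpecResidueField q ≫ π := Spec.map_preimage _
  have hqf : ι.hom.QuasiFinite :=
    (HasRingHomProperty.Spec_iff (P := @LocallyQuasiFinite)).1 (hι ▸ inferInstance)
  letI : Algebra K (P.residueField q) := ι.hom.toAlgebra
  haveI : Algebra.QuasiFinite K (P.residueField q) := hqf
  haveI : Module.Finite K (P.residueField q) := Module.Finite.of_quasiFinite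
  have hb : Function.Bijective (algebraMap K (P.residueField q)) :=
    IsAlgClosed.algebraMap_bijective_of_isIntegral
  let j := Spec.preimage ((Spec (CommRingCat.of K)).fromSpecResidueField (π q))
  have hj : ι = j ≫ π.residueFieldMap q := Spec.map_injective <| by
    rw [hι, Spec.map_comp, show Spec.map j = _ from Spec.map_preimage _,
      Scheme.Hom.SpecMap_residueFieldMap_fromSpecResidueField]
  refine ⟨RingHom.injective _, fun z ↦ ?_⟩
  obtain ⟨a, ha⟩ := hb.2 z
  exact ⟨j.hom a, (congr($(hj).hom a)).symm.trans ha⟩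

variable (f : X ⟶ Y) [LocallyQuasiFinite f]

/-- Geometric points over an algebraically closed field are already defined over it. -/
theorem exists_fac_of_isAlgClosed {K Ω : Type u} [Field K] [IsAlgClosed K] [Field Ω]
    (v : Spec (CommRingCat.of K) ⟶ Y) (w : Spec (CommRingCat.of Ω) ⟶ Spec (CommRingCat.of K))
    (x : Spec (CommRingCat.of Ω) ⟶ X) (hx : x ≫ f = w ≫ v) :
    ∃ s : Spec (CommRingCat.of K) ⟶ X, s ≫ f = v ∧ w ≫ s = x := by
  haveI : LocallyQuasiFinite (pullback.snd f v) := inferInstance
  let l := pullback.lift x w hx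
  have hb := bijective_residueFieldMap_of_isAlgClosed (pullback.snd f v) (pt l)
  haveI : Subsingleton (Spec (CommRingCat.of K)) := inferInstanceAs (Subsingleton (PrimeSpectrum K))
  obtain ⟨σ, hσ, hσq⟩ := DvrDom.exists_lift_of_bijective (pullback.snd f v) (pt l) hb (𝟙 _)
    (Subsingleton.elim _ _)
  have hl : l = w ≫ σ := DvrDom.eq_of_bijective (pullback.snd f v) (pt l) hb rfl
    (((Scheme.Hom.comp_apply _ _ _).trans (congrArg σ (Subsingleton.elim _ _))).trans hσq)
    (by rw [Category.assoc, hσ, Category.comp_id, pullback.lift_snd])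
  refine ⟨σ ≫ pullback.fst f v, ?_, ?_⟩
  · rw [Category.assoc, pullback.condition, ← Category.assoc, hσ, Category.id_comp]
  · rw [← Category.assoc, ← hl, pullback.lift_fst]

/-- If all geometric points over `v` are defined over `K`, their number is the number of points of the
fibre over `K`. -/
theorem nGeomConnComp_eq_card_pullback [LocallyOfFiniteType f] [QuasiCompact f] {K Ω : Type u} [Field K]
    [Field Ω] [IsAlgClosed Ω] (v : Spec (CommRingCat.of K) ⟶ Y) (φ : K →+* Ω)
    (h : ∀ x : Spec (CommRingCat.of Ω) ⟶ X, x ≫ f = Spec.map (CommRingCat.ofHom φ) ≫ v →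
      ∃ s, s ≫ f = v ∧ Spec.map (CommRingCat.ofHom φ) ≫ s = x) :
    MoreMor.nGeomConnComp f (pt v) = ENat.card ↥(pullback f v) := by
  let w := Spec.map (CommRingCat.ofHom φ)
  haveI : LocallyQuasiFinite (pullback.snd f v) := inferInstance
  haveI : Subsingleton (Spec (CommRingCat.of K)) := inferInstanceAs (Subsingleton (PrimeSpectrum K))
  have hpt : pt (w ≫ v) = pt v := (pt_comp w v).trans (apply_eq_pt v _)
  rw [← hpt, nGeomConnComp_eq_card_fib f (w ≫ v)]
  refine ENat.card_congr (Equiv.ofBijective (fun x : Fib f (w ≫ v) ↦ pt (pullback.lift x.1 w x.2)) ⟨?_, ?_⟩)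
  · rintro ⟨x₁, hx₁⟩ ⟨x₂, hx₂⟩ (e : pt _ = pt _)
    obtain ⟨s₁, hs₁, e₁⟩ := h x₁ hx₁
    let σ : Spec (CommRingCat.of K) ⟶ pullback f v :=
      pullback.lift s₁ (𝟙 _) (hs₁.trans (Category.id_comp _).symm)
    have hl : pullback.lift x₁ w hx₁ = w ≫ σ := pullback.hom_ext
      ((pullback.lift_fst _ _ _).trans (e₁.symm.trans
        ((congrArg (w ≫ ·) (pullback.lift_fst _ _ _).symm).trans (Category.assoc _ _ _).symm)))
      ((pullback.lift_snd _ _ _).trans ((Category.comp_id w).symm.trans
        ((congrArg (w ≫ ·) (pullback.lift_snd _ _ _).symm).trans (Category.assoc _ _ _).symm)))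
    have hb := DvrDom.bijective_residueFieldMap_of_section (pullback.snd f v) σ
      ((pullback.lift_snd _ _ _).trans (by
        rw [Algebra.algebraMap_self, CommRingCat.ofHom_id, Spec.map_id]))
    have hpσ : pt (pullback.lift x₁ w hx₁) = σ (closedPoint K) := by
      rw [hl, pt_comp, apply_eq_pt]; rfl
    have := DvrDom.eq_of_bijective (pullback.snd f v) _ hb hpσ (e.symm.trans hpσ)
      ((pullback.lift_snd _ _ _).trans (pullback.lift_snd _ _ _).symm)
    refine Subtype.ext ?_
    have := congrArg (· ≫ pullback.fst f v) this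
    exact (pullback.lift_fst _ _ _).symm.trans (this.trans (pullback.lift_fst _ _ _))
  · intro q
    obtain ⟨l, hl, hlq⟩ := exists_mem_fib_at (pullback.snd f v) w q (Subsingleton.elim _ _)
    refine ⟨⟨l ≫ pullback.fst f v, ?_⟩, ?_⟩
    · show _ = _
      rw [Category.assoc, pullback.condition, ← Category.assoc, show l ≫ _ = w from hl]
    · show pt (pullback.lift _ _ _) = q
      rw [← hlq]
      congr 1
      exact pullback.hom_ext (pullback.lift_fst _ _ _) ((pullback.lift_snd _ _ _).trans hl.symm)

omit [LocallyQuasiFinite f] in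
/-- The fibre over the point of a preimmersion of a field. -/
theorem card_fiber_eq_card_pullback {S : Scheme.{u}} (g : S ⟶ Y) {K : Type u} [Field K]
    (e : Spec (CommRingCat.of K) ⟶ S) [IsPreimmersion e] :
    ENat.card ↥((pullback.snd f g).fiber (pt e)) = ENat.card ↥(pullback f (e ≫ g)) := by
  have hinj : Function.Injective (pullback.fst (pullback.snd f g) e) :=
    (pullback.fst (pullback.snd f g) e).isEmbedding.injective
  have hr : Set.range (pullback.fst (pullback.snd f g) e) = (pullback.snd f g) ⁻¹' {pt e} := by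
    rw [Scheme.Pullback.range_fst, range_eq_pt]
  refine (ENat.card_congr ((pullback.snd f g).fiberHomeo (pt e)).toEquiv).trans ?_
  rw [← hr, ← ENat.card_congr (Equiv.ofInjective _ hinj)]
  exact ENat.card_congr (pullbackLeftPullbackSndIso f g e).hom.homeomorph.toEquiv

/-- A finite extension of `K` over which all geometric points are defined. -/
theorem exists_finite_field_extension [LocallyOfFiniteType f] [QuasiCompact f] {K : Type u} [Field K]
    (v : Spec (CommRingCat.of K) ⟶ Y) :
    ∃ L : IntermediateField K (AlgebraicClosure K), FiniteDimensional K L ∧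
      MoreMor.nGeomConnComp f (pt v) =
        ENat.card ↥(pullback f (Spec.map (CommRingCat.ofHom (algebraMap K L)) ≫ v)) := by
  classical
  let Ω := AlgebraicClosure K
  let w := Spec.map (CommRingCat.ofHom (algebraMap K Ω))
  have hfin : (Fib f (w ≫ v)).Finite := finite_fib f _ (f.finite_preimage_singleton _)
  have hx : ∀ x : Fib f (w ≫ v), ∃ s : Finset Ω, ∀ E : IntermediateField K Ω, ↑s ⊆ (E : Set Ω) →
      ∃ t : Spec (CommRingCat.of E) ⟶ X, Spec.map (CommRingCat.ofHom (algebraMap E Ω)) ≫ t = x.1 := by
    rintro ⟨x, hx⟩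
    obtain ⟨ψ, hψ⟩ := DvrDom.exists_fac_descResidueField x (x := pt x) rfl
    have hv : v (closedPoint K) = f (pt x) := by
      have := congrArg pt hx
      rw [pt_comp, pt_comp, apply_eq_pt] at this
      exact this.symm
    obtain ⟨χ, hχ⟩ := DvrDom.exists_fac_descResidueField v hv
    have key : f.residueFieldMap (pt x) ≫ ψ = χ ≫ CommRingCat.ofHom (algebraMap K Ω) := by
      apply Spec.map_injective
      rw [← cancel_mono (Y.fromSpecResidueField (f (pt x))), Spec.map_comp, Spec.map_comp, Category.assoc,
        Scheme.Hom.SpecMap_residueFieldMap_fromSpecResidueField, reassoc_of% hψ, Category.assoc, hχ]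
      exact hx
    letI : Algebra (Y.residueField (f (pt x))) (X.residueField (pt x)) := (f.residueFieldMap (pt x)).hom.toAlgebra
    haveI : Module.Finite (Y.residueField (f (pt x))) (X.residueField (pt x)) :=
      finite_residueFieldMap f (pt x)
    obtain ⟨G, hG⟩ := Module.Finite.fg_top (R := Y.residueField (f (pt x))) (M := X.residueField (pt x))
    refine ⟨G.image ψ.hom, fun E hE ↦ ?_⟩
    have hmem : ∀ a, ψ.hom a ∈ E := by
      intro a
      have ha : a ∈ Submodule.span (Y.residueField (f (pt x))) (G : Set (X.residueField (pt x))) :=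
        hG ▸ Submodule.mem_top
      induction ha using Submodule.span_induction with
      | mem b hb => exact hE (Finset.mem_image_of_mem _ hb)
      | zero => rw [map_zero]; exact zero_mem E
      | add b c _ _ hb hc => rw [map_add]; exact add_mem hb hc
      | smul r b _ hb =>
        rw [Algebra.smul_def, map_mul]
        refine mul_mem ?_ hb
        rw [show ψ.hom (algebraMap _ _ r) = algebraMap K Ω (χ.hom r) from congr($(key).hom r)]
        exact E.algebraMap_mem _
    refine ⟨Spec.map (CommRingCat.ofHom (ψ.hom.codRestrict E.toSubfield hmem)) ≫ X.fromSpecResidueField _, ?_⟩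
    rw [← Spec.map_comp_assoc]
    exact hψ
  choose s hs using hx
  haveI := hfin.fintype
  let S : Finset Ω := Finset.univ.biUnion s
  let L : IntermediateField K Ω := IntermediateField.adjoin K (S : Set Ω)
  refine ⟨L, IntermediateField.finiteDimensional_adjoin fun a _ ↦ Algebra.IsIntegral.isIntegral a, ?_⟩
  have hj : pt (Spec.map (CommRingCat.ofHom (algebraMap K L)) ≫ v) = pt v := by
    rw [pt_comp]; exact apply_eq_pt v _
  rw [← hj]
  refine nGeomConnComp_eq_card_pullback f _ (algebraMap L Ω) fun x hx ↦ ?_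
  have hx' : x ∈ Fib f (w ≫ v) := by
    show x ≫ f = w ≫ v
    rw [hx, ← Spec.map_comp_assoc]
    rfl
  obtain ⟨t, ht⟩ := hs ⟨x, hx'⟩ L fun a ha ↦ IntermediateField.subset_adjoin _ _
    (Finset.mem_biUnion.mpr ⟨_, Finset.mem_univ _, ha⟩)
  exact ⟨t, eq_of_comp_field (algebraMap L Ω) (by rw [reassoc_of% ht, hx]), ht⟩

/-- A discrete valuation ring with algebraically closed residue field over a given one. -/
theorem isDomain_and_isDiscreteValuationRing {B : Type u} [CommRing B] [IsNoetherianRing B] [IsLocalRing B]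
    {b : B} (hb : maximalIdeal B = Ideal.span {b}) (hreg : IsSMulRegular B b) :
    ∃ _ : IsDomain B, IsDiscreteValuationRing B := by
  have hfac : ∀ a : B, a ≠ 0 → ∃ n : ℕ, ∃ u : Bˣ, a = u * b ^ n := by
    intro a ha
    by_contra hc
    push Not at hc
    refine ha ?_
    have : a ∈ ⨅ n : ℕ, maximalIdeal B ^ n := by
      refine Ideal.mem_iInf.mpr fun n ↦ ?_
      induction n with
      | zero => simp
      | succ n ih =>
        rw [hb, Ideal.span_singleton_pow, Ideal.mem_span_singleton'] at ih
        obtain ⟨c, rfl⟩ := ih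
        by_cases hu : IsUnit c
        · exact absurd rfl (hc n hu.unit)
        · rw [hb, Ideal.span_singleton_pow, Ideal.mem_span_singleton']
          obtain ⟨d, rfl⟩ := Ideal.mem_span_singleton'.mp (hb ▸ (mem_maximalIdeal c).mpr hu : c ∈ Ideal.span {b})
          exact ⟨d, by ring⟩
    rwa [Ideal.iInf_pow_eq_bot_of_isLocalRing _ (maximalIdeal.isMaximal B).ne_top] at this
  have hdom : IsDomain B := by
    have : NoZeroDivisors B := ⟨fun {a c} hac ↦ by
      by_contra h
      push Not at h
      obtain ⟨n, u, rfl⟩ := hfac a h.1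
      obtain ⟨m, v, rfl⟩ := hfac c h.2
      have h0 : b ^ (n + m) = 0 := by
        have : (u * v : Bˣ) * b ^ (n + m) = 0 := by rw [← hac]; push_cast; ring
        exact (Units.mul_right_eq_zero _).mp this
      have := (hreg.pow (n + m)) (show b ^ (n + m) • (1 : B) = b ^ (n + m) • 0 by simp [h0])
      exact one_ne_zero this⟩
    exact NoZeroDivisors.to_isDomain _
  refine ⟨hdom, ?_⟩
  have : IsPrincipalIdealRing B :=
    ((tfae_of_isNoetherianRing_of_isLocalRing_of_isDomain B).out 4 0).mp (show (maximalIdeal B).IsPrincipal by rw [hb]; exact ⟨⟨b, rfl⟩⟩)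
  exact { not_a_field' := fun h ↦ by
            rw [hb, Ideal.span_singleton_eq_bot] at h
            subst h
            exact zero_ne_one (hreg (show (0 : B) • (0 : B) = (0 : B) • 1 by simp)) }

end Groth.Agent.GeomPts
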